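import Cfsg.Prelude.Def_LieRecognition
import Mathlib.Algebra.CharP.Two
import Mathlib.Algebra.Field.TransferInstance
import Mathlib.FieldTheory.Finite.GaloisField

/-!
Suzuki 2-groups of type A: coordinates, and uniqueness of central extensions with a given square map.
-/

set_option autoImplicit false

namespace CfsgLib.SuzukiTwo

/-- Two finite central extensions by the same groups with the same square map are isomorphic. -/
theorem nonempty_iso_of_sq {P1 P2 Q Z : Type*} [Group P1] [Group P2] [Finite P1] [Finite P2]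
    [Group Q] [Group Z] (π1 : P1 →* Q) (π2 : P2 →* Q) (ι1 : Z →* P1) (ι2 : Z →* P2)
    (hs1 : Function.Surjective π1) (hs2 : Function.Surjective π2)
    (hi1 : Function.Injective ι1) (hi2 : Function.Injective ι2)
    (hc1 : ∀ z a, ι1 z * a = a * ι1 z) (hc2 : ∀ z a, ι2 z * a = a * ι2 z)
    (hk1 : π1.ker = ι1.range) (hk2 : π2.ker = ι2.range)
    (hsq : ∀ a b, π1 a = π2 b → ∃ z, a * a = ι1 z ∧ b * b = ι2 z) :
    Nonempty (P1 ≃* P2) := by
  classical
  let D : Subgroup (P1 × P2) :=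
    { carrier := {p | π1 p.1 = π2 p.2}
      one_mem' := by simp
      mul_mem' := fun {p q} hp hq => by
        simp only [Set.mem_setOf_eq, Prod.fst_mul, Prod.snd_mul, map_mul] at hp hq ⊢
        rw [hp, hq]
      inv_mem' := fun {p} hp => by
        simp only [Set.mem_setOf_eq, Prod.fst_inv, Prod.snd_inv, map_inv] at hp ⊢
        rw [hp] }
  let Δ : Subgroup (P1 × P2) := (ι1.prod ι2).range
  let N : Subgroup (P1 × P2) := (ι1.prod (1 : Z →* P2)).range
  have hΔc : ∀ δ ∈ Δ, ∀ p, δ * p = p * δ := by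
    rintro _ ⟨z, rfl⟩ p
    exact Prod.ext (hc1 z _) (hc2 z _)
  have hNc : ∀ δ ∈ N, ∀ p, δ * p = p * δ := by
    rintro _ ⟨z, rfl⟩ p
    exact Prod.ext (hc1 z _) (by simp)
  have hsqΔ : ∀ p ∈ D, p * p ∈ Δ := by
    intro p hp
    obtain ⟨z, h1, h2⟩ := hsq p.1 p.2 hp
    exact ⟨z, Prod.ext h1.symm h2.symm⟩
  have hk1' : ∀ z, π1 (ι1 z) = 1 := fun z => MonoidHom.mem_ker.1 (hk1 ▸ ⟨z, rfl⟩)
  have hk2' : ∀ z, π2 (ι2 z) = 1 := fun z => MonoidHom.mem_ker.1 (hk2 ▸ ⟨z, rfl⟩)
  have hΔD : Δ ≤ D := by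
    rintro _ ⟨z, rfl⟩
    show π1 (ι1 z) = π2 (ι2 z)
    rw [hk1', hk2']
  obtain ⟨G, hΔG, hG⟩ := Set.Finite.exists_le_maximal
    (s := {G : Subgroup (P1 × P2) | Δ ≤ G ∧ G ≤ D ∧ ∀ p ∈ G, p ∈ N → p = 1}) (Set.toFinite _)
    (show Δ ∈ _ from ⟨le_rfl, hΔD, by
      rintro _ ⟨z, rfl⟩ ⟨w, hw⟩
      have h2 : ι2 z = 1 := (congrArg Prod.snd hw).symm
      rw [hi2 (h2.trans (map_one ι2).symm)]
      exact map_one _⟩)
  obtain ⟨-, hGD, hGN⟩ := hG.1
  have hfull : ∀ d ∈ D, ∃ g ∈ G, ∃ m ∈ N, d = g * m := by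
    intro d hd
    by_contra hcon
    push Not at hcon
    have hdG : d ∉ G := fun h => hcon d h 1 N.one_mem (mul_one d).symm
    have hd2 : d * d ∈ G := hΔG (hsqΔ d hd)
    have hcomm : ∀ g ∈ G, d * g * d⁻¹ ∈ G := by
      intro g hg
      have h1 := hsqΔ (d * g) (D.mul_mem hd (hGD hg))
      have h2 := hsqΔ d hd
      have e : d * g * d⁻¹ = d * g * (d * g) * g⁻¹ * (d * d)⁻¹ := by group
      rw [e]
      exact G.mul_mem (G.mul_mem (hΔG h1) (G.inv_mem hg)) (G.inv_mem hd2)
    let G' : Subgroup (P1 × P2) :=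
      { carrier := {p | p ∈ G ∨ d * p ∈ G}
        one_mem' := Or.inl G.one_mem
        mul_mem' := fun {p q} hp hq => by
          rcases hp with hp | hp <;> rcases hq with hq | hq
          · exact Or.inl (G.mul_mem hp hq)
          · refine Or.inr ?_
            have e : d * (p * q) = d * p * d⁻¹ * (d * q) := by group
            rw [e]
            exact G.mul_mem (hcomm p hp) hq
          · refine Or.inr ?_
            rw [← mul_assoc]
            exact G.mul_mem hp hq
          · refine Or.inl ?_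
            have e : p * q = (d * d)⁻¹ * (d * (d * p) * d⁻¹) * (d * q) := by group
            rw [e]
            exact G.mul_mem (G.mul_mem (G.inv_mem hd2) (hcomm _ hp)) hq
        inv_mem' := fun {p} hp => by
          rcases hp with hp | hp
          · exact Or.inl (G.inv_mem hp)
          · refine Or.inr ?_
            have e : d * p⁻¹ = d * (d * p)⁻¹ * d⁻¹ * (d * d) := by group
            rw [e]
            exact G.mul_mem (hcomm _ (G.inv_mem hp)) hd2 }
    have hle : G ≤ G' := fun p hp => Or.inl hp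
    have hmem : d ∈ G' := Or.inr hd2
    refine hdG (hG.2 (y := G') ⟨hΔG.trans hle, ?_, ?_⟩ hle hmem)
    · rintro p (hp | hp)
      · exact hGD hp
      · simpa using D.mul_mem (D.inv_mem hd) (hGD hp)
    · rintro p (hp | hp) hpN
      · exact hGN p hp hpN
      · exact absurd (by group) (hcon (d * p) hp p⁻¹ (N.inv_mem hpN))
  have hg1 : ∀ a, ∃ b, (a, b) ∈ G := by
    intro a
    obtain ⟨b, hb⟩ := hs2 (π1 a)
    obtain ⟨g, hg, _, ⟨z, rfl⟩, he⟩ := hfull (a, b) hb.symm
    refine ⟨g.2 * ι2 z, ?_⟩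
    convert G.mul_mem hg (hΔG ⟨z, rfl⟩) using 1
    refine Prod.ext ?_ rfl
    have h1 := congrArg Prod.fst he
    exact h1
  have hg2 : ∀ b, ∃ a, (a, b) ∈ G := by
    intro b
    obtain ⟨a, ha⟩ := hs1 (π2 b)
    obtain ⟨g, hg, _, ⟨z, rfl⟩, he⟩ := hfull (a, b) ha
    refine ⟨g.1, ?_⟩
    convert hg using 1
    refine Prod.ext rfl ?_
    have := congrArg Prod.snd he
    simpa using this
  have hu1 : ∀ b, (1, b) ∈ G → b = 1 := by
    intro b hb
    obtain ⟨z, rfl⟩ : b ∈ ι2.range := by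
      rw [← hk2, MonoidHom.mem_ker, ← (show π1 1 = π2 b from hGD hb), map_one]
    have h := hGN ((1, ι2 z) * ((ι1 z)⁻¹, (ι2 z)⁻¹))
      (G.mul_mem hb (G.inv_mem (hΔG ⟨z, rfl⟩))) ⟨z⁻¹, Prod.ext (by simp) (by simp)⟩
    have h1 : ι1 z = 1 := by simpa using congrArg Prod.fst h
    rw [hi1 (h1.trans (map_one ι1).symm), map_one]
  have hu2 : ∀ a, (a, 1) ∈ G → a = 1 := by
    intro a ha
    obtain ⟨z, rfl⟩ : a ∈ ι1.range := by
      rw [← hk1, MonoidHom.mem_ker, (show π1 a = π2 1 from hGD ha), map_one]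
    exact congrArg Prod.fst (hGN _ ha ⟨z, rfl⟩)
  let f1 : G →* P1 := (MonoidHom.fst P1 P2).comp G.subtype
  let f2 : G →* P2 := (MonoidHom.snd P1 P2).comp G.subtype
  have hb1 : Function.Bijective f1 := by
    refine ⟨(injective_iff_map_eq_one f1).2 fun p hp => ?_, fun a => ?_⟩
    · obtain ⟨⟨a, b⟩, hab⟩ := p
      have ha : a = 1 := hp
      subst ha
      exact Subtype.ext (Prod.ext rfl (hu1 b hab))
    · obtain ⟨b, hb⟩ := hg1 a
      exact ⟨⟨(a, b), hb⟩, rfl⟩
  have hb2 : Function.Bijective f2 := by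
    refine ⟨(injective_iff_map_eq_one f2).2 fun p hp => ?_, fun b => ?_⟩
    · obtain ⟨⟨a, b⟩, hab⟩ := p
      have ha : b = 1 := hp
      subst ha
      exact Subtype.ext (Prod.ext (hu2 a hab) rfl)
    · obtain ⟨a, ha⟩ := hg2 b
      exact ⟨⟨(a, b), ha⟩, rfl⟩
  exact ⟨(MulEquiv.ofBijective f1 hb1).symm.trans (MulEquiv.ofBijective f2 hb2)⟩

/-- A group with coordinates as in type A is the group of type A. -/
theorem nonempty_iso_typeA {P : Type*} [Group P] [Finite P] {F : Type*} [Field F] [Fintype F]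
    [CharP F 2] (φ : F →+* F) (π : P →* Multiplicative F) (ι : Multiplicative F →* P)
    (hπ : Function.Surjective π) (hι : Function.Injective ι)
    (hc : ∀ z a, ι z * a = a * ι z) (hk : π.ker = ι.range)
    (hsq : ∀ a, a * a = ι (Multiplicative.ofAdd ((π a).toAdd * φ (π a).toAdd))) :
    Nonempty (P ≃* Cfsg.suzukiTypeA F φ) := by
  classical
  let mat : F → F → Matrix (Fin 3) (Fin 3) F := fun x y => !![1, 0, 0; x, 1, 0; y, φ x, 1]
  have hmul : ∀ x y x' y', mat x y * mat x' y' = mat (x + x') (y + φ x * x' + y') := by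
    intro x y x' y'
    ext i j
    fin_cases i <;> fin_cases j <;>
      simp [mat, Matrix.mul_apply, Fin.sum_univ_three, map_add, add_assoc]
  have hone : mat 0 0 = 1 := by
    ext i j
    fin_cases i <;> fin_cases j <;> simp [mat]
  let mk : F → F → GL (Fin 3) F := fun x y =>
    { val := mat x y
      inv := mat x (y + φ x * x)
      val_inv := by
        rw [hmul, ← hone, CharTwo.add_self_eq_zero, CharTwo.add_self_eq_zero]
      inv_val := by
        rw [hmul, ← hone, CharTwo.add_self_eq_zero, add_assoc, add_assoc]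
        congr 1
        have h1 := CharTwo.add_self_eq_zero y
        have h2 := CharTwo.add_self_eq_zero (φ x * x)
        linear_combination h1 + h2 }
  have hmk : ∀ x y x' y', mk x y * mk x' y' = mk (x + x') (y + φ x * x' + y') :=
    fun x y x' y' => Units.ext (hmul x y x' y')
  let S : Subgroup (GL (Fin 3) F) :=
    { carrier := {g | ∃ x y, g = mk x y}
      one_mem' := ⟨0, 0, Units.ext hone.symm⟩
      mul_mem' := by
        rintro _ _ ⟨x, y, rfl⟩ ⟨x', y', rfl⟩
        exact ⟨_, _, hmk x y x' y'⟩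
      inv_mem' := by
        rintro _ ⟨x, y, rfl⟩
        exact ⟨x, y + φ x * x, Units.ext rfl⟩ }
  have hS : Cfsg.suzukiTypeA F φ = S := by
    apply le_antisymm
    · refine (Subgroup.closure_le _).2 ?_
      rintro g ⟨x, y, h⟩
      exact ⟨x, y, Units.ext h⟩
    · rintro _ ⟨x, y, rfl⟩
      exact Subgroup.subset_closure ⟨x, y, rfl⟩
  have hrep : ∀ g : Cfsg.suzukiTypeA F φ, ∃ x y, (g : GL (Fin 3) F) = mk x y := fun g => by
    have h := g.2
    simp only [hS] at h
    exact h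
  have hmem : ∀ x y, mk x y ∈ Cfsg.suzukiTypeA F φ := fun x y =>
    Subgroup.subset_closure ⟨x, y, rfl⟩
  let π' : Cfsg.suzukiTypeA F φ →* Multiplicative F := MonoidHom.mk'
    (fun g => Multiplicative.ofAdd (((g : GL (Fin 3) F) : Matrix (Fin 3) (Fin 3) F) 1 0))
    (fun g h => by
      obtain ⟨x, y, hg⟩ := hrep g
      obtain ⟨x', y', hh⟩ := hrep h
      rw [Subgroup.coe_mul, hg, hh, hmk, ← ofAdd_add]
      simp [mk, mat])
  let ι' : Multiplicative F →* Cfsg.suzukiTypeA F φ := MonoidHom.mk'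
    (fun z => ⟨mk 0 z.toAdd, hmem _ _⟩)
    (fun z w => Subtype.ext (by
      rw [Subgroup.coe_mul, hmk]
      simp [toAdd_mul]))
  have hπval : ∀ g x y, ((g : Cfsg.suzukiTypeA F φ) : GL (Fin 3) F) = mk x y →
      π' g = Multiplicative.ofAdd x := by
    intro g x y h
    show Multiplicative.ofAdd _ = _
    rw [h]
    simp [mk, mat]
  refine nonempty_iso_of_sq π π' ι ι' hπ ?_ hι ?_ hc ?_ hk ?_ ?_
  · intro z
    exact ⟨⟨mk z.toAdd 0, hmem _ _⟩, hπval _ _ 0 rfl⟩
  · intro z w h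
    have := congrArg (fun g : Cfsg.suzukiTypeA F φ =>
      (((g : GL (Fin 3) F) : Matrix (Fin 3) (Fin 3) F) 2 0)) h
    apply Multiplicative.toAdd.injective
    simpa [ι', mk, mat] using this
  · intro z g
    obtain ⟨x, y, hg⟩ := hrep g
    apply Subtype.ext
    show mk 0 z.toAdd * (g : GL (Fin 3) F) = (g : GL (Fin 3) F) * mk 0 z.toAdd
    rw [hg, hmk, hmk, map_zero, zero_mul, mul_zero, add_zero, add_zero, zero_add, add_zero,
      add_comm]
  · ext g
    constructor
    · intro h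
      obtain ⟨x, y, hg⟩ := hrep g
      rw [MonoidHom.mem_ker, hπval g x y hg] at h
      have hx : x = 0 := ofAdd_eq_one.1 h
      subst hx
      exact ⟨Multiplicative.ofAdd y, Subtype.ext hg.symm⟩
    · rintro ⟨z, rfl⟩
      exact hπval _ 0 z.toAdd rfl
  · intro a g h
    obtain ⟨x, y, hg⟩ := hrep g
    rw [hπval g x y hg] at h
    refine ⟨_, hsq a, Subtype.ext ?_⟩
    rw [h, toAdd_ofAdd]
    show (g : GL (Fin 3) F) * (g : GL (Fin 3) F) = mk 0 (x * φ x)
    rw [hg, hmk, CharTwo.add_self_eq_zero]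
    congr 1
    have h1 := CharTwo.add_self_eq_zero y
    linear_combination h1

end CfsgLib.SuzukiTwo
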