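import Cfsg.Agent.Lib.SuzukiTwo.Class
import Cfsg.Agent.Lib.SuzukiTwo.TypeA

/-!
A Suzuki 2-group of order `q²` is of type A.
-/

set_option autoImplicit false

namespace CfsgLib.SuzukiTwo

open scoped commutatorElement

universe u

section field

variable {F : Type*} [Field F] [Fintype F] [CharP F 2]

/-- A multiplicative quadratic map is a product of two automorphisms. -/
theorem exists_monomial (M : F →* F) (h0 : M 0 = 0)
    (hq : ∀ x y z : F, M (x + y + z) + M (x + y) + M (x + z) + M (y + z) + M x + M y + M z = 0) :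
    ∃ σ τ : F ≃+* F, ∀ v, M v = σ v * τ v := by
  classical
  obtain ⟨s, c, hc⟩ := CfsgLib.FieldAut.exists_sum_quadratic (fun v => M v) hq
  let m : (F ≃+* F) × (F ≃+* F) → (F →* F) := fun p => p.1.toMonoidHom * p.2.toMonoidHom
  by_contra hcon
  push Not at hcon
  have hne : ∀ p, m p ≠ M := by
    intro p h
    obtain ⟨v, hv⟩ := hcon p.1 p.2
    exact hv (DFunLike.congr_fun h v).symm
  have hli := linearIndependent_monoidHom F F
  rw [linearIndependent_iff'] at hli
  have key := hli (insert M (s.image m))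
    (fun f => (if f = M then 1 else 0) + ∑ p ∈ s, if f = m p then c p else 0) (by
      funext v
      simp only [Finset.sum_apply, Pi.smul_apply, smul_eq_mul, Pi.zero_apply, add_mul,
        Finset.sum_add_distrib, Finset.sum_mul, ite_mul, one_mul, zero_mul]
      rw [Finset.sum_ite_eq', if_pos (Finset.mem_insert_self _ _), Finset.sum_comm]
      have e : ∀ p ∈ s, (∑ f ∈ insert M (s.image m), if f = m p then c p * f v else 0) =
          c p * (p.1 v * p.2 v) := by
        intro p hp
        rw [Finset.sum_ite_eq', if_pos (Finset.mem_insert_of_mem (Finset.mem_image_of_mem m hp))]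
        rfl
      rw [Finset.sum_congr rfl e, ← hc v, CharTwo.add_self_eq_zero]) M (Finset.mem_insert_self _ _)
  rw [if_pos rfl, Finset.sum_eq_zero (fun p _ => if_neg fun h => hne p h.symm), add_zero] at key
  exact one_ne_zero key

/-- If `v ↦ v * φ v` is injective then `φ` has odd order. -/
theorem odd_orderOf (φ : F ≃+* F) (hinj : Function.Injective fun v => v * φ v) :
    Odd (orderOf φ) := by
  classical
  obtain ⟨_, _, -⟩ := CfsgLib.FieldAut.exists_basis (F := F)
  by_contra hev
  rw [Nat.not_odd_iff_even] at hev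
  obtain ⟨l, hl⟩ := hev
  have hpos := (isOfFinOrder_of_finite φ).orderOf_pos
  obtain ⟨z, hz⟩ : ∃ z, ∑ j ∈ Finset.range (2 * l), (φ ^ j) z ≠ 0 := by
    by_contra hcon
    push Not at hcon
    have hli := CfsgLib.FieldAut.linearIndependent_aut (F := F)
    have hli' := hli.comp (fun j : Fin (2 * l) => φ ^ (j : ℕ)) (fun i j h => Fin.ext
      (pow_injOn_Iio_orderOf (by simp only [Set.mem_Iio]; omega)
        (by simp only [Set.mem_Iio]; omega) h))
    rw [Fintype.linearIndependent_iff] at hli'
    have h1 := hli' (fun _ => 1) (by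
      funext z
      simp only [Finset.sum_apply, Pi.smul_apply, smul_eq_mul, one_mul, Pi.zero_apply,
        Function.comp_apply]
      exact (Fin.sum_univ_eq_sum_range (fun j => (φ ^ j) z) (2 * l)).trans (hcon z))
      ⟨0, by omega⟩
    exact one_ne_zero h1
  set y := ∑ i ∈ Finset.range l, (φ ^ (2 * i)) z with hy
  have hstep : ∀ i, φ ((φ ^ i) z) = (φ ^ (i + 1)) z := fun i => by
    rw [pow_succ']
    rfl
  have hφy : φ y = ∑ i ∈ Finset.range l, (φ ^ (2 * i + 1)) z := by
    rw [hy, map_sum]
    exact Finset.sum_congr rfl fun i _ => hstep _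
  have hφφ : φ (φ y) = y := by
    rw [hφy, map_sum]
    have h1 : ∀ i ∈ Finset.range l, φ ((φ ^ (2 * i + 1)) z) = (φ ^ (2 * (i + 1))) z :=
      fun i _ => by rw [hstep, show 2 * i + 1 + 1 = 2 * (i + 1) by ring]
    rw [Finset.sum_congr rfl h1]
    have h2 := Finset.sum_range_succ' (fun i => (φ ^ (2 * i)) z) l
    have h3 := Finset.sum_range_succ (fun i => (φ ^ (2 * i)) z) l
    rw [h2, show 2 * l = orderOf φ by omega, pow_orderOf_eq_one, mul_zero, pow_zero] at h3
    exact add_right_cancel h3
  have hne : φ y ≠ y := by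
    intro h
    apply hz
    have e : ∀ m, ∑ j ∈ Finset.range (2 * m), (φ ^ j) z =
        (∑ i ∈ Finset.range m, (φ ^ (2 * i)) z) +
          ∑ i ∈ Finset.range m, (φ ^ (2 * i + 1)) z := by
      intro m
      induction m with
      | zero => simp
      | succ m ih =>
        rw [show 2 * (m + 1) = 2 * m + 1 + 1 by ring, Finset.sum_range_succ, Finset.sum_range_succ,
          ih, Finset.sum_range_succ, Finset.sum_range_succ]
        ring
    rw [e, ← hφy, ← hy, h, CharTwo.add_self_eq_zero]
  have hy0 : y ≠ 0 := fun h => hne (by rw [h, map_zero])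
  have hφy0 : φ y ≠ 0 := (map_ne_zero φ).2 hy0
  have : y / φ y = 1 := hinj (by
    show y / φ y * φ (y / φ y) = 1 * φ 1
    rw [map_div₀, hφφ, map_one, one_mul, div_mul_div_cancel₀ hφy0, div_self hy0])
  exact hne ((div_eq_one_iff_eq hφy0).1 this).symm

/-- A bijection compatible with scalars carries the additive structure of a field. -/
theorem exists_addEquiv_of_homogeneous {V : Type*} [AddCommGroup V] [Finite V] (R : F → V)
    (hR : Function.Bijective R) (h0 : R 0 = 0)
    (hlin : ∀ c : F, c ≠ 0 → ∃ L : V →+ V, ∀ t, L (R t) = R (c * t)) :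
    ∃ (x : F → V) (M : F →* F), Function.Bijective x ∧ (∀ a b, x (a + b) = x a + x b) ∧
      M 0 = 0 ∧ Function.Bijective M ∧ ∀ v, x v = R (M v) := by
  classical
  let e := Equiv.ofBijective R hR
  have he : ∀ t, e t = R t := fun t => rfl
  have hlin' : ∀ c, ∃ L : V →+ V, ∀ t, L (R t) = R (c * t) := fun c => by
    by_cases hc : c = 0
    · exact ⟨0, fun t => by simp [hc, h0]⟩
    · exact hlin c hc
  choose L hL using hlin'
  let mu : V → V → V := fun v w => R (e.symm v * e.symm w)
  have hmu : ∀ a b, mu (R a) (R b) = R (a * b) := fun a b => by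
    show R (e.symm (e a) * e.symm (e b)) = _
    rw [e.symm_apply_apply, e.symm_apply_apply]
  have hmuL : ∀ v w, mu v w = L (e.symm v) w := fun v w => by
    conv_rhs => rw [← e.apply_symm_apply w, he, hL]
  have hmc : ∀ v w, mu v w = mu w v := fun v w => by simp only [mu, mul_comm]
  letI : CommRing V :=
    { (inferInstance : AddCommGroup V) with
      mul := mu
      one := R 1
      one_mul := fun v => by
        show mu (R 1) v = v
        obtain ⟨a, rfl⟩ := hR.2 v
        rw [hmu, one_mul]
      mul_one := fun v => by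
        show mu v (R 1) = v
        obtain ⟨a, rfl⟩ := hR.2 v
        rw [hmu, mul_one]
      mul_assoc := fun a b c => by
        obtain ⟨a, rfl⟩ := hR.2 a
        obtain ⟨b, rfl⟩ := hR.2 b
        obtain ⟨c, rfl⟩ := hR.2 c
        show mu (mu (R a) (R b)) (R c) = mu (R a) (mu (R b) (R c))
        simp only [hmu, mul_assoc]
      mul_comm := hmc
      left_distrib := fun a b c => by
        show mu a (b + c) = mu a b + mu a c
        rw [hmuL, hmuL, hmuL, map_add]
      right_distrib := fun a b c => by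
        show mu (a + b) c = mu a c + mu b c
        rw [hmc (a + b), hmc a, hmc b, hmuL, hmuL, hmuL, map_add]
      zero_mul := fun a => by
        show mu 0 a = 0
        rw [hmc, hmuL, map_zero]
      mul_zero := fun a => by
        show mu a 0 = 0
        rw [hmuL, map_zero] }
  have hfield : IsField V := by
    refine ⟨⟨0, R 1, fun h => one_ne_zero (hR.1 (h.symm.trans h0.symm))⟩, mul_comm,
      fun {v} hv => ?_⟩
    obtain ⟨a, rfl⟩ := hR.2 v
    refine ⟨R a⁻¹, ?_⟩
    show mu (R a) (R a⁻¹) = R 1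
    rw [hmu, mul_inv_cancel₀ fun (h : a = 0) => hv (by rw [h, h0])]
  letI : Field V := hfield.toField
  letI : Fintype V := Fintype.ofFinite V
  let ψ : F ≃+* V := FiniteField.ringEquivOfCardEq (K := F) (K' := V) (Fintype.card_congr e)
  have hM : ∀ v, R (e.symm (ψ v)) = ψ v := fun v => e.apply_symm_apply _
  have hM1 : e.symm (ψ 1) = 1 := hR.1 (by rw [hM, map_one]; rfl)
  have hMmul : ∀ v w, e.symm (ψ (v * w)) = e.symm (ψ v) * e.symm (ψ w) := fun v w => hR.1 (by
    rw [hM, map_mul]; rfl)
  refine ⟨ψ, { toFun := fun v => e.symm (ψ v), map_one' := hM1, map_mul' := hMmul },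
    ψ.bijective, map_add ψ, ?_, (ψ.toEquiv.trans e.symm).bijective, fun v => (hM v).symm⟩
  show e.symm (ψ 0) = 0
  rw [map_zero, ← h0, ← he, e.symm_apply_apply]

end field

variable {P : Type u} [Group P] {F : Type u} [Field F] [Fintype F] [CharP F 2]
variable {K : Subgroup (MulAut P)} {η : F → P} {κ : K →* Fˣ}

/-- Coordinates of type A for a Suzuki 2-group of order `q²`. -/
theorem exists_typeA_coord (hT : IsTorus K) (hC : IsCoord K η κ)
    (hcard : Nat.card P = Fintype.card F ^ 2) :
    ∃ (φ : F ≃+* F) (π : P →* Multiplicative F) (ι : Multiplicative F →* P),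
      φ ≠ RingEquiv.refl F ∧ Odd (orderOf φ) ∧ Function.Surjective π ∧ Function.Injective ι ∧
      (∀ z a, ι z * a = a * ι z) ∧ π.ker = ι.range ∧
      ∀ a, a * a = ι (Multiplicative.ofAdd ((π a).toAdd * φ (π a).toAdd)) := by
  classical
  have := hT.finite
  have htop := layer_center_eq_top hT hC
  have hmem : ∀ y : P, y ∈ layer (Subgroup.center P) := fun y => htop ▸ Subgroup.mem_top y
  set Z := Subgroup.center P with hZ
  have hcomm : ∀ a b : P ⧸ Z, a * b = b * a := by
    intro a b
    induction a using QuotientGroup.induction_on with | _ a =>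
    induction b using QuotientGroup.induction_on with | _ b =>
    rw [← QuotientGroup.mk_mul, ← QuotientGroup.mk_mul, QuotientGroup.eq]
    simpa [commutatorElement_def, mul_assoc] using (mem_layer.1 (hmem a⁻¹)).2 b⁻¹
  letI : CommGroup (P ⧸ Z) := { (inferInstance : Group (P ⧸ Z)) with mul_comm := hcomm }
  have hwd : ∀ a b : P, a⁻¹ * b ∈ Z → sqc η a = sqc η b := by
    intro a b h
    have e : b = a * (a⁻¹ * b) := by group
    rw [e, sqc_mul hT hC (hmem a) (hmem _), sqc_center hT hC h,
      commutatorElement_eq_one_iff_mul_comm.2 (Subgroup.mem_center_iff.1 h a).symm,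
      hC.lg_one, add_zero, add_zero]
  let Qv : Additive (P ⧸ Z) → F := fun x => Quotient.liftOn' x.toMul (fun a => sqc η a)
    (fun a b h => hwd a b (QuotientGroup.leftRel_apply.1 h))
  have hQmk : ∀ a : P, Qv (Additive.ofMul (a : P ⧸ Z)) = sqc η a := fun a => rfl
  have hrep : ∀ x : Additive (P ⧸ Z), ∃ a : P, x = Additive.ofMul (a : P ⧸ Z) := fun x => by
    obtain ⟨a, ha⟩ := QuotientGroup.mk_surjective x.toMul
    exact ⟨a, by rw [ha]; rfl⟩
  have hcardV : Nat.card (Additive (P ⧸ Z)) = Fintype.card F := by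
    have h := Subgroup.card_eq_card_quotient_mul_card_subgroup Z
    rw [hcard, hZ, card_center hT hC, pow_two] at h
    exact (mul_right_cancel₀ Fintype.card_ne_zero h).symm
  have hQs : Function.Surjective Qv := by
    obtain ⟨y, hy, hyZ⟩ := exists_layer_not_center hT hC
    refine surjective_of_equivariant _ (fun c hc x => ?_)
      ⟨Additive.ofMul ((1 : P) : P ⧸ Z), (hQmk 1).trans (sqc_center hT hC (Subgroup.one_mem _))⟩
      ⟨Additive.ofMul (y : P ⧸ Z), fun h => hyZ (sqc_eq_zero hT hC hy h)⟩
    obtain ⟨k, rfl⟩ := hC.exists_scalar hc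
    obtain ⟨a, rfl⟩ := hrep x
    exact ⟨Additive.ofMul (((k : MulAut P) a : P) : P ⧸ Z), by
      rw [hQmk, hQmk, sqc_map hT hC k (hmem a)]⟩
  have hQb : Function.Bijective Qv := (Nat.bijective_iff_surjective_and_card Qv).2
    ⟨hQs, by rw [hcardV, Nat.card_eq_fintype_card]⟩
  let R := (Equiv.ofBijective Qv hQb).symm
  have hQR : ∀ t, Qv (R t) = t := (Equiv.ofBijective Qv hQb).apply_symm_apply
  have hR0 : R 0 = 0 := hQb.1 ((hQR 0).trans
    ((hQmk 1).trans (sqc_center hT hC (Subgroup.one_mem _))).symm)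
  obtain ⟨x, M, hx, hxadd, hM0, hMb, hxM⟩ := exists_addEquiv_of_homogeneous R R.bijective hR0
    (fun c hc => by
      obtain ⟨k, rfl⟩ := hC.exists_scalar hc
      refine ⟨MonoidHom.toAdditive (QuotientGroup.map Z Z (k : MulAut P).toMonoidHom
        fun z hz => map_mem_center _ hz), fun t => hQb.1 ?_⟩
      rw [hQR]
      obtain ⟨a, ha⟩ := hrep (R t)
      rw [ha]
      refine (hQmk ((k : MulAut P) a)).trans ?_
      rw [sqc_map hT hC k (hmem a), ← hQmk a, ← ha, hQR])
  have hMx : ∀ v, M v = Qv (x v) := fun v => by rw [hxM, hQR]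
  have hpol : ∀ a b : P, sqc η (a * b) + sqc η a + sqc η b = lg η ⁅b, a⁆ := by
    intro a b
    rw [sqc_mul hT hC (hmem a) (hmem b)]
    linear_combination CharTwo.add_self_eq_zero (sqc η a) + CharTwo.add_self_eq_zero (sqc η b)
  have hpolx : ∀ v (a : P), x v = Additive.ofMul (a : P ⧸ Z) → M v = sqc η a := fun v a h => by
    rw [hMx, h, hQmk]
  have hq : ∀ u v w : F, M (u + v + w) + M (u + v) + M (u + w) + M (v + w) + M u + M v + M w
      = 0 := by
    intro u v w
    obtain ⟨a, ha⟩ := hrep (x u)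
    obtain ⟨b, hb⟩ := hrep (x v)
    obtain ⟨c, hc⟩ := hrep (x w)
    have hsum : ∀ (p q : F) (a b : P), x p = Additive.ofMul (a : P ⧸ Z) →
        x q = Additive.ofMul (b : P ⧸ Z) → x (p + q) = Additive.ofMul ((a * b : P) : P ⧸ Z) :=
      fun p q a b h1 h2 => by rw [hxadd, h1, h2]; rfl
    have e1 := hpol (a * b) c
    have e2 := hpol a c
    have e3 := hpol b c
    rw [lg_commutator_mul_right hT hC (hmem a) (hmem b)] at e1
    rw [hpolx _ _ (hsum _ _ _ _ (hsum _ _ _ _ ha hb) hc), hpolx _ _ (hsum _ _ _ _ ha hb),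
      hpolx _ _ (hsum _ _ _ _ ha hc), hpolx _ _ (hsum _ _ _ _ hb hc), hpolx _ _ ha,
      hpolx _ _ hb, hpolx _ _ hc]
    linear_combination e1 + e2 + e3 + CharTwo.add_self_eq_zero (lg η ⁅c, a⁆) +
      CharTwo.add_self_eq_zero (lg η ⁅c, b⁆) - CharTwo.add_self_eq_zero (sqc η c)
  obtain ⟨σ, τ, hστ⟩ := exists_monomial M hM0 hq
  -- normalise
  let φ : F ≃+* F := σ.symm.trans τ
  have hMσ : ∀ v, M (σ.symm v) = v * φ v := fun v => by
    rw [hστ, σ.apply_symm_apply]; rfl
  have hodd : Odd (orderOf φ) := odd_orderOf φ (by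
    intro v w h
    refine σ.symm.injective (hMb.1 ?_)
    rw [hMσ, hMσ]
    exact h)
  let xe : F ≃+ Additive (P ⧸ Z) :=
    (σ.symm.toAddEquiv).trans (AddEquiv.ofBijective (AddMonoidHom.mk' x hxadd) hx)
  let π : P →* Multiplicative F :=
    (xe.symm.toAddMonoidHom.toMultiplicativeRight).comp (QuotientGroup.mk' Z)
  have hπ : ∀ a, xe ((π a).toAdd) = Additive.ofMul (a : P ⧸ Z) := fun a =>
    xe.apply_symm_apply _
  have hπsq : ∀ a, sqc η a = (π a).toAdd * φ (π a).toAdd := fun a => by
    rw [← hMσ]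
    exact (hpolx _ a (hπ a)).symm
  let ι : Multiplicative F →* P := MonoidHom.mk' (fun z => η z.toAdd) (fun z w => hC.map_add _ _)
  refine ⟨φ, π, ι, ?_, hodd, ?_, fun z w h => Multiplicative.toAdd.injective (hC.inj h),
    fun z a => (Subgroup.mem_center_iff.1 (hT.involution_central (hC.sq z.toAdd)) a).symm, ?_,
    fun a => ?_⟩
  · intro hφ
    obtain ⟨p, r, hpr⟩ := hT.nonab
    apply hpr
    have hadd : ∀ v w : F, (v + w) * φ (v + w) = v * φ v + w * φ w := fun v w => by
      rw [hφ]
      simp only [RingEquiv.refl_apply]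
      linear_combination CharTwo.add_self_eq_zero (v * w)
    have h := hpol r p
    rw [hπsq, hπsq, hπsq, map_mul, toAdd_mul, hadd] at h
    have h2 : lg η ⁅p, r⁆ = 0 := by
      rw [← h]
      linear_combination CharTwo.add_self_eq_zero ((π r).toAdd * φ (π r).toAdd) +
        CharTwo.add_self_eq_zero ((π p).toAdd * φ (π p).toAdd)
    exact commutatorElement_eq_one_iff_mul_comm.1
      (hC.eq_one_of_lg (layer_comm_sq hT hC (hmem r)) h2)
  · intro z
    obtain ⟨a, ha⟩ := hrep (xe z.toAdd)
    refine ⟨a, ?_⟩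
    apply Multiplicative.toAdd.injective
    exact xe.injective ((hπ a).trans ha.symm)
  · ext a
    constructor
    · intro h
      have h1 : xe ((π a).toAdd) = 0 := by rw [MonoidHom.mem_ker.1 h]; exact map_zero xe
      rw [hπ] at h1
      obtain ⟨v, hv⟩ := hC.mem_range a (center_sq_eq_one hT hC ((QuotientGroup.eq_one_iff a).1 h1))
      exact ⟨Multiplicative.ofAdd v, hv⟩
    · rintro ⟨z, rfl⟩
      have h1 : ((η z.toAdd : P) : P ⧸ Z) = 1 :=
        (QuotientGroup.eq_one_iff _).2 (hT.involution_central (hC.sq _))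
      apply Multiplicative.toAdd.injective
      refine xe.injective ?_
      rw [hπ, toAdd_one, map_zero]
      exact congrArg Additive.ofMul h1
  · show a * a = η _
    rw [← hπsq]
    exact (hC.eta_lg (layer_sq hT hC (hmem a))).symm

end CfsgLib.SuzukiTwo
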